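import Groth.Agent.PerfGen7.Devissage
import Groth.Agent.KFlatLib.Scheme.DQCohLimit
import Groth.Agent.QCoh.Localize
import Groth.Prelude.Def_KLin
import Mathlib.Algebra.Homology.DerivedCategory.Linear

/-!
# Morphisms from perfect objects to objects supported on `V(a)` are killed by powers of `a`
-/

set_option linter.style.haveILetI false
set_option backward.isDefEq.respectTransparency false

universe u

open CategoryTheory CategoryTheory.Limits AlgebraicGeometry TopologicalSpace Pretriangulated Opposite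

attribute [local instance] HasDerivedCategory.standard

noncomputable section

namespace Groth.Agent.SuppKill7

open Groth.Agent.KFlatLib Groth.Agent.PerfGen7

variable {A : Type u} [CommRing A] {X : Scheme.{u}} [X.Over (Spec (CommRingCat.of A))]

/-- The image of `a` on an open. -/
def gl (a : A) (V : X.Opens) : Γ(X, V) :=
  X.presheaf.map (homOfLE (le_top : V ≤ ⊤)).op (Coh.toGlobal (X ↘ Spec (CommRingCat.of A)) a)

/-- `Hom(j_! O_V, M)` and `Γ(V, M)`, linearly. -/
theorem secEquiv_smul (V : X.Opens) {M : X.Modules} (a : A) (g : secObj V ⟶ M) :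
    secEquiv V M (a • g) = gl a (V.ι ''ᵁ ⊤) • secEquiv V M g := by
  have h : a • g = g ≫ (a • 𝟙 M) := by rw [Linear.comp_smul, Category.comp_id]
  rw [h, secEquiv_naturality, KLin.smul_app_apply, Scheme.Modules.Hom.id_app]
  rfl

/-- The objects from which morphisms into supported objects are killed by powers of `a`. -/
def Kills (a : A) : ObjectProperty (DCoh.D X) := fun E =>
  ∀ E' : DCoh.D X, DCoh.IsQCohD E' →
    (∀ i, CohB1.support (DCoh.HD E' i) ⊆ (X.zeroLocus (U := ⊤) {Coh.toGlobal (X ↘ Spec (CommRingCat.of A)) a} : Set X)) →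
    ∀ α : E ⟶ E', ∃ n : ℕ, (a ^ n) • α = 0

variable (a : A)

theorem kills_iso {E F : DCoh.D X} (e : E ≅ F) (h : Kills a E) : Kills a F := fun E' hq hs α => by
  obtain ⟨n, hn⟩ := h E' hq hs (e.hom ≫ α)
  refine ⟨n, ?_⟩
  rw [← cancel_epi e.hom, comp_zero, Linear.comp_smul]
  exact hn

theorem hd_shift_support {E : DCoh.D X} {T : Set X} (h : ∀ i, CohB1.support (DCoh.HD E i) ⊆ T) (n i : ℤ) :
    CohB1.support (DCoh.HD (E⟦n⟧) i) ⊆ T := fun x hx => h (n + i) fun hs => hx (
  @Equiv.subsingleton _ _ (((DerSch.stalkFunctor X x).mapIso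
    (((DerivedCategory.homologyFunctor X.Modules 0).shiftIso n i (n + i) rfl).app E)).toLinearEquiv.toEquiv) hs)

theorem kills_shift {E : DCoh.D X} (h : Kills a E) (m : ℤ) : Kills a (E⟦m⟧) := fun E' hq hs α => by
  let d : E⟦m⟧⟦-m⟧ ≅ E := (shiftFunctorCompIsoId (DCoh.D X) m (-m) (by simp)).app E
  obtain ⟨n, hn⟩ := h (E'⟦-m⟧) (isQCohD_shift hq (-m)) (hd_shift_support hs (-m)) (d.inv ≫ α⟦-m⟧')
  refine ⟨n, (shiftFunctor (DCoh.D X) (-m)).map_injective ?_⟩
  rw [Functor.map_zero, Functor.map_smul, ← cancel_epi d.inv, comp_zero, Linear.comp_smul]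
  exact hn

theorem kills_ext {T : Triangle (DCoh.D X)} (hT : T ∈ distTriang (DCoh.D X)) (h₁ : Kills a T.obj₁)
    (h₃ : Kills a T.obj₃) : Kills a T.obj₂ := fun E' hq hs α => by
  obtain ⟨n, hn⟩ := h₁ E' hq hs (T.mor₁ ≫ α)
  obtain ⟨β, hβ⟩ := Triangle.yoneda_exact₂ T hT ((a ^ n) • α) (by rw [Linear.comp_smul]; exact hn)
  obtain ⟨m, hm⟩ := h₃ E' hq hs β
  refine ⟨m + n, ?_⟩
  rw [pow_add, mul_smul, hβ, ← Linear.comp_smul, hm, comp_zero]

theorem kills_secObj {V : X.Opens} (hV : IsAffineOpen V) : Kills a (DCoh.inD X (secObj V)) :=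
    fun E' hq hs φ => by
  let W := V.ι ''ᵁ ⊤
  have hW : IsAffineOpen W := (show IsAffineOpen W ↔ IsAffineOpen V by rw [show W = V from V.ι_image_top]).2 hV
  let M := DCoh.HD E' 0
  let t : Γ(M, W) := secEquiv V M (psi V E' φ)
  have ht : M.presheaf.map (homOfLE (X.basicOpen_le (gl a W))).op t = 0 := by
    refine TopCat.Presheaf.section_ext ⟨M.presheaf, M.isSheaf⟩ _ _ _ fun x hx => ?_
    have hne : x ∉ CohB1.support M := fun hx' => by
      have h1 := hs 0 hx'
      rw [Scheme.zeroLocus_singleton] at h1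
      refine h1 ?_
      simp only [gl, Scheme.basicOpen_res] at hx
      exact hx.2
    simp only [CohB1.support, Set.mem_setOf_eq, not_not] at hne
    exact @Subsingleton.elim _ hne _ _
  obtain ⟨n, hn⟩ := QCoh.exists_pow_smul_eq_zero (hq 0) hW (gl a W) t ht
  refine ⟨n, (bijH0_of_isQCohD hq hV).1 ?_⟩
  rw [psi_zero]
  have h1 : psi V E' ((a ^ n) • φ) = (a ^ n) • psi V E' φ := by
    have h2 : (a ^ n) • φ =
        (DerivedCategory.singleFunctor X.Modules 0).map ((a ^ n) • 𝟙 (secObj V)) ≫ φ := by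
      rw [Functor.map_smul, CategoryTheory.Functor.map_id, Linear.smul_comp, Category.id_comp]
    have h3 : (h0Single (secObj V)).inv ≫ (DerivedCategory.homologyFunctor X.Modules 0).map
        ((DerivedCategory.singleFunctor X.Modules 0).map ((a ^ n) • 𝟙 (secObj V))) =
        ((a ^ n) • 𝟙 (secObj V)) ≫ (h0Single (secObj V)).inv :=
      ((DerivedCategory.singleFunctorCompHomologyFunctorIso X.Modules 0).inv.naturality _).symm
    rw [h2, psi, Functor.map_comp, reassoc_of% h3, Linear.smul_comp, Category.id_comp]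
    rfl
  rw [h1]
  refine (secEquiv V M).injective ?_
  rw [secEquiv_smul]
  have h0 : secEquiv V M 0 = 0 := by
    rw [show (0 : secObj V ⟶ M) = (0 : secObj V ⟶ M) ≫ (0 : M ⟶ M) from zero_comp.symm, secEquiv_naturality]
    rfl
  rw [h0, show gl (a ^ n) W = gl a W ^ n by simp [gl, map_pow]]
  exact hn

/-- Morphisms from perfect objects to objects supported on `V(a)` are killed by a power of `a`. -/
theorem exists_pow_smul_eq_zero [CompactSpace X] [QuasiSeparatedSpace X] {E E' : DCoh.D X}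
    (hE : DCoh.IsPerfect E) (hE' : DCoh.IsQCohD E')
    (hs : ∀ i, CohB1.support (DCoh.HD E' i) ⊆ (X.zeroLocus (U := ⊤) {Coh.toGlobal (X ↘ Spec (CommRingCat.of A)) a} : Set X))
    (α : E ⟶ E') : ∃ n : ℕ, (a ^ n) • α = 0 := by
  let Φ : ObjectProperty (DCoh.D X) := Kills a
  haveI : Φ.IsClosedUnderIsomorphisms := ⟨fun e h => kills_iso a e h⟩
  haveI : Φ.IsTriangulated :=
    { exists_zero := (HasZeroObject.zero (C := DCoh.D X)).elim fun Z hZ =>
        ⟨Z, hZ, fun E' _ _ α => ⟨0, by rw [hZ.eq_of_src α 0, smul_zero]⟩⟩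
      isStableUnderShiftBy := fun m => ⟨fun A h => kills_shift a h m⟩
      ext₂' := fun T hT h₁ h₃ => ObjectProperty.le_isoClosure _ _ (kills_ext a hT h₁ h₃) }
  exact perfect_devissage Φ (fun V hV => kills_secObj a hV) hE E' hE' hs α

end Groth.Agent.SuppKill7
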